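/-
Pointed torsors over a pointed scheme over a field: equivariance on points, constant points,
push forward along homomorphisms to finite groups.
-/
import Groth.Prelude.Def_NoriFGS
import Groth.Agent.GITLib.Pushforward
import Groth.Agent.GITLib.TorsorSchMore
import Groth.Agent.LimTors.Basic

set_option autoImplicit false
set_option linter.style.haveILetI false

universe u

open CategoryTheory CategoryTheory.Limits MonoidalCategory CartesianMonoidalCategory MonObj GrpObj AlgebraicGeometry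

namespace Groth.Agent.NoriLib

open Groth.Agent.GITLib

variable {k : Type u} [Field k] {X : Scheme.{u}} (p : X ⟶ Spec (CommRingCat.of k))

/-- The transposition of points along the structure map. -/
noncomputable abbrev he (T : Over X) (Z : Over (Spec (CommRingCat.of k))) :
    ((Over.map p).obj T ⟶ Z) ≃ (T ⟶ Red.bc p Z) :=
  (Over.mapPullbackAdj p).homEquiv T Z

theorem he_naturality_right {T : Over X} {Z Z' : Over (Spec (CommRingCat.of k))}
    (z : (Over.map p).obj T ⟶ Z) (φ : Z ⟶ Z') :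
    he p T Z' (z ≫ φ) = he p T Z z ≫ (Over.pullback p).map φ :=
  Adjunction.homEquiv_naturality_right _ _ _

theorem he_symm_naturality_right {T : Over X} {Z Z' : Over (Spec (CommRingCat.of k))}
    (z : T ⟶ Red.bc p Z) (φ : Z ⟶ Z') :
    (he p T Z').symm (z ≫ (Over.pullback p).map φ) = (he p T Z).symm z ≫ φ :=
  Adjunction.homEquiv_naturality_right_symm _ _ _

/-- A rational point, seen over the base. -/
noncomputable def cst {Z : Over (Spec (CommRingCat.of k))}
    (z : 𝟙_ (Over (Spec (CommRingCat.of k))) ⟶ Z) (T : Over X) : T ⟶ Red.bc p Z :=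
  he p T Z (toUnit _ ≫ z)

theorem comp_cst {Z : Over (Spec (CommRingCat.of k))}
    (z : 𝟙_ (Over (Spec (CommRingCat.of k))) ⟶ Z) {T T' : Over X} (l : T' ⟶ T) :
    l ≫ cst p z T = cst p z T' := by
  rw [cst, cst, ← Adjunction.homEquiv_naturality_left, comp_toUnit_assoc]

theorem cst_comp {Z Z' : Over (Spec (CommRingCat.of k))}
    (z : 𝟙_ (Over (Spec (CommRingCat.of k))) ⟶ Z) (φ : Z ⟶ Z') (T : Over X) :
    cst p z T ≫ (Over.pullback p).map φ = cst p (z ≫ φ) T := by
  rw [cst, cst, ← he_naturality_right, Category.assoc]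

variable {G G' G'' : Over (Spec (CommRingCat.of k))} [GrpObj G] [GrpObj G'] [GrpObj G'']

theorem he_one {T : Over X} : he p T G 1 = 1 := by
  have h := AlgGrp.Action.homEquiv_mul p (G := G) (1 : (Over.map p).obj T ⟶ G) 1
  rw [_root_.mul_one] at h
  exact mul_left_cancel (a := he p T G 1) (by rw [_root_.mul_one]; exact h.symm)

/-- A rational point of a scheme over the base, as points of the base change. -/
theorem cst_one (T : Over X) : cst p (1 : 𝟙_ (Over (Spec (CommRingCat.of k))) ⟶ G) T = 1 := by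
  rw [cst, MonObj.comp_one]
  exact he_one p

/-- Points of the base change at a rational point of the base are points over the field. -/
theorem exists_eq_cst (x : Spec (CommRingCat.of k) ⟶ X) (hx : x ≫ p = 𝟙 _)
    {Z : Over (Spec (CommRingCat.of k))} (g : Over.mk x ⟶ Red.bc p Z) :
    ∃ z : 𝟙_ (Over (Spec (CommRingCat.of k))) ⟶ Z, cst p z (Over.mk x) = g := by
  let u : 𝟙_ (Over (Spec (CommRingCat.of k))) ⟶ (Over.map p).obj (Over.mk x) :=
    Over.homMk (𝟙 _) (by change 𝟙 _ ≫ x ≫ p = 𝟙 _; rw [hx, Category.comp_id])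
  refine ⟨u ≫ (he p _ Z).symm g, ?_⟩
  have hu : toUnit ((Over.map p).obj (Over.mk x)) ≫ u = 𝟙 _ := by
    apply Over.OverMorphism.ext
    change (toUnit ((Over.map p).obj (Over.mk x))).left ≫ 𝟙 _ = 𝟙 _
    rw [Category.comp_id, Over.toUnit_left]
    exact hx
  rw [cst, reassoc_of% hu, Equiv.apply_symm_apply]

/-- Points of the base change over `S₀` pulled to a rational point of the base. -/
theorem exists_eq_pt (x : Spec (CommRingCat.of k) ⟶ X) (hx : x ≫ p = 𝟙 _)
    (S₀ : Over (Spec (CommRingCat.of k))) :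
    ∃ m : S₀ ≅ (Over.map p).obj (Over.mk (S₀.hom ≫ x)), m.hom.left = 𝟙 _ :=
  ⟨Over.isoMk (Iso.refl _) (by
    change 𝟙 _ ≫ (S₀.hom ≫ x) ≫ p = S₀.hom
    rw [Category.id_comp, Category.assoc, hx, Category.comp_id]), rfl⟩

variable [X.Over (Spec (CommRingCat.of k))]

local notation "pX" => (X ↘ Spec (CommRingCat.of k))

/-- An equivariant morphism on points. -/
theorem equiv_pt {φ : G ⟶ G'} [IsMonHom φ] {T T' : Over X}
    {a : AlgGrp.Action (Red.bc pX G) T} {a' : AlgGrp.Action (Red.bc pX G') T'} {f : T ⟶ T'}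
    (h : AlgGrp.Action.IsEquivariant a (a'.restrict ((Over.pullback pX).map φ)) f)
    {V : Over X} (g : V ⟶ Red.bc pX G) (v : V ⟶ T) :
    (lift g v ≫ a.act) ≫ f = lift (g ≫ (Over.pullback pX).map φ) (v ≫ f) ≫ a'.act := by
  rw [Category.assoc, h, lift_whiskerLeft_assoc, AlgGrp.Action.lift_restrict_act]

theorem equivariant_of_pt {φ : G ⟶ G'} [IsMonHom φ] {T T' : Over X}
    {a : AlgGrp.Action (Red.bc pX G) T} {a' : AlgGrp.Action (Red.bc pX G') T'} {f : T ⟶ T'}
    (h : ∀ (V : Over X) (g : V ⟶ Red.bc pX G) (v : V ⟶ T),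
      (lift g v ≫ a.act) ≫ f = lift (g ≫ (Over.pullback pX).map φ) (v ≫ f) ≫ a'.act) :
    AlgGrp.Action.IsEquivariant a (a'.restrict ((Over.pullback pX).map φ)) f :=
  AlgGrp.Action.hom_ext_lift₂ fun V g v => by
    rw [lift_whiskerLeft_assoc, AlgGrp.Action.lift_restrict_act, ← Category.assoc, h V g v]

/-- Morphisms of pointed torsors compose. -/
theorem ptHom_comp {T T' T'' : Over X} {a : AlgGrp.Action (Red.bc pX G) T}
    {a' : AlgGrp.Action (Red.bc pX G') T'} {a'' : AlgGrp.Action (Red.bc pX G'') T''}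
    {t : Spec (CommRingCat.of k) ⟶ T.left} {t' : Spec (CommRingCat.of k) ⟶ T'.left}
    {t'' : Spec (CommRingCat.of k) ⟶ T''.left} {φ : G ⟶ G'} [IsMonHom φ] {φ' : G' ⟶ G''}
    [IsMonHom φ'] {f : T ⟶ T'} {f' : T' ⟶ T''}
    (h : NoriFGS.IsPtTorsorHom a t a' t' φ f) (h' : NoriFGS.IsPtTorsorHom a' t' a'' t'' φ' f') :
    NoriFGS.IsPtTorsorHom a t a'' t'' (φ ≫ φ') (f ≫ f') := by
  refine ⟨equivariant_of_pt fun V g v => ?_, ?_⟩
  · rw [← Category.assoc, equiv_pt h.1, equiv_pt h'.1, Functor.map_comp, Category.assoc g,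
      Category.assoc v]
  · rw [Over.comp_left, ← Category.assoc, h.2, h'.2]

/-- The trivial homomorphism. -/
theorem map_one' {T : Over X} (g : T ⟶ Red.bc pX G) :
    g ≫ (Over.pullback pX).map (1 : G ⟶ G') = 1 := by
  apply (he pX T G').symm.injective
  rw [he_symm_naturality_right, MonObj.comp_one, Equiv.eq_symm_apply]
  exact he_one pX

/-- Push forward of a pointed torsor along a homomorphism to a finite group. -/
theorem exists_pushforward_pt {π : Over (Spec (CommRingCat.of k))} [GrpObj π] [IsAffineHom π.hom]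
    [IsAffineHom G.hom] (ψ : π ⟶ G) [IsMonHom ψ] {P : Over X}
    (a : AlgGrp.Action (Red.bc pX π) P) (ha : NonAbH1.IsTorsorFor Scheme.fpqcPrecoverage a)
    (p₀ : Spec (CommRingCat.of k) ⟶ P.left) :
    ∃ (T : Over X) (b : AlgGrp.Action (Red.bc pX G) T) (f : P ⟶ T),
      NonAbH1.IsTorsorFor Scheme.fpqcPrecoverage b ∧
        NoriFGS.IsPtTorsorHom a p₀ b (p₀ ≫ f.left) ψ f := by
  haveI : Flat (Red.bc pX π).hom := MorphismProperty.pullback_snd _ _ inferInstance
  haveI : IsAffineHom (Red.bc pX π).hom := MorphismProperty.pullback_snd _ _ inferInstance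
  haveI : IsAffineHom (Red.bc pX G).hom := MorphismProperty.pullback_snd _ _ inferInstance
  obtain ⟨P', q, hq⟩ := exists_pushforward ((Over.pullback pX).map ψ) le_rfl ha
  refine ⟨P'.X, P'.act, q, P'.isTorsor, equivariant_of_pt fun V g v => ?_, rfl⟩
  rw [Category.assoc, hq, comp_lift_assoc, lift_fst_assoc, lift_snd_assoc]

end Groth.Agent.NoriLib
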