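/-
A group scheme over a field acting on a scheme over a base acts on the spectrum of its global
functions.
-/
import Groth.Agent.NoriLib.Basic
import Groth.Agent.GITLib.RigidProper

set_option autoImplicit false
set_option linter.style.haveILetI false

universe u

open CategoryTheory CategoryTheory.Limits MonoidalCategory CartesianMonoidalCategory MonObj GrpObj AlgebraicGeometry

namespace Groth.Agent.NoriLib

variable {k : Type u} [Field k] {X : Scheme.{u}} (p : X ⟶ Spec (CommRingCat.of k))

/-- The product of a scheme over the field with a scheme over the base. -/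
theorem isPullback_bc_tensor (M : Over (Spec (CommRingCat.of k))) (T : Over X) :
    IsPullback ((he p (Red.bc p M ⊗ T) M).symm (fst _ _)).left (snd (Red.bc p M) T).left
      M.hom (T.hom ≫ p) := by
  have e : ((he p (Red.bc p M ⊗ T) M).symm (fst _ _)).left =
      (fst (Red.bc p M) T).left ≫ pullback.fst M.hom p := rfl
  rw [e]
  exact ((IsPullback.of_hasPullback (pullback.snd M.hom p) T.hom).flip.paste_vert
    (IsPullback.of_hasPullback M.hom p).flip).flip

/-- The spectrum of the global functions. -/
theorem exists_affinization (W : Over (Spec (CommRingCat.of k))) :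
    ∃ (Z : Over (Spec (CommRingCat.of k))) (τ : W ⟶ Z),
      IsAffine Z.left ∧ IsIso τ.left.appTop := by
  refine ⟨Over.mk (Spec.map W.hom.appTop ≫ (Spec (CommRingCat.of k)).isoSpec.inv),
    Over.homMk W.left.toSpecΓ ?_, inferInstanceAs (IsAffine (Spec Γ(W.left, ⊤))), ?_⟩
  · show W.left.toSpecΓ ≫ Spec.map W.hom.appTop ≫ (Spec (CommRingCat.of k)).isoSpec.inv = W.hom
    rw [← Scheme.toSpecΓ_naturality_assoc]
    simp [Scheme.isoSpec]
  · show IsIso W.left.toSpecΓ.appTop
    rw [Scheme.toSpecΓ_appTop]
    infer_instance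

variable {T : Over X} {Z : Over (Spec (CommRingCat.of k))} (τ : (Over.map p).obj T ⟶ Z)

/-- The comparison with the product. -/
noncomputable def prodMap (M : Over (Spec (CommRingCat.of k))) :
    (Over.map p).obj (Red.bc p M ⊗ T) ⟶ M ⊗ Z :=
  lift ((he p (Red.bc p M ⊗ T) M).symm (fst _ _)) ((Over.map p).map (snd _ _) ≫ τ)

variable [IsAffine Z.left] [CompactSpace T.left] [QuasiSeparatedSpace T.left]

theorem isIso_prodMap_appTop [IsIso τ.left.appTop] (M : Over (Spec (CommRingCat.of k)))
    [IsAffine M.left] : IsIso (prodMap p τ M).left.appTop := by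
  haveI : IsAffineHom Z.hom := inferInstance
  haveI : IsAffine (M ⊗ Z).left := inferInstanceAs (IsAffine (pullback M.hom Z.hom))
  haveI : Flat (snd M Z).left := inferInstanceAs (Flat (pullback.snd M.hom Z.hom))
  have hr : IsPullback (fst M Z).left (snd M Z).left M.hom Z.hom :=
    IsPullback.of_hasPullback M.hom Z.hom
  have h1 : (prodMap p τ M).left ≫ (fst M Z).left =
      ((he p (Red.bc p M ⊗ T) M).symm (fst _ _)).left := by
    rw [← Over.comp_left, prodMap, lift_fst]
  have h2 : (prodMap p τ M).left ≫ (snd M Z).left = (snd (Red.bc p M) T).left ≫ τ.left := by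
    rw [← Over.comp_left, prodMap, lift_snd]
    rfl
  have hbig : IsPullback ((prodMap p τ M).left ≫ (fst M Z).left) (snd (Red.bc p M) T).left
      M.hom (τ.left ≫ Z.hom) := by
    rw [h1, Over.w τ]
    exact isPullback_bc_tensor p M T
  exact GITLib.Rigid.isIso_appTop_of_isPullback (IsPullback.of_right hbig h2 hr).flip ‹_›

/-- Morphisms from the product to an affine scheme are determined after the comparison. -/
theorem prodMap_cancel [IsIso τ.left.appTop] {M : Over (Spec (CommRingCat.of k))} [IsAffine M.left]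
    {A : Over (Spec (CommRingCat.of k))} [IsAffine A.left] {f g : M ⊗ Z ⟶ A}
    (h : prodMap p τ M ≫ f = prodMap p τ M ≫ g) : f = g := by
  haveI := isIso_prodMap_appTop p τ M
  apply Over.OverMorphism.ext
  apply ext_of_isAffine
  rw [← cancel_mono (prodMap p τ M).left.appTop]
  rw [← Scheme.Hom.comp_appTop, ← Scheme.Hom.comp_appTop, ← Over.comp_left, ← Over.comp_left, h]

omit [IsAffine Z.left] [CompactSpace T.left] [QuasiSeparatedSpace T.left] in
theorem map_lift_prodMap {M : Over (Spec (CommRingCat.of k))} {V : Over X}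
    (g : V ⟶ Red.bc p M) (v : V ⟶ T) :
    (Over.map p).map (lift g v) ≫ prodMap p τ M =
      lift ((he p V M).symm g) ((Over.map p).map v ≫ τ) := by
  rw [prodMap, comp_lift, ← Category.assoc, ← Functor.map_comp, lift_snd,
    ← Adjunction.homEquiv_naturality_left_symm, lift_fst]

/-- The action on the spectrum of the global functions. -/
theorem exists_act_affinization [IsIso τ.left.appTop] {G : Over (Spec (CommRingCat.of k))} [GrpObj G]
    [IsAffine G.left] (a : AlgGrp.Action (Red.bc p G) T) :
    ∃ aZ : AlgGrp.Action G Z, ∀ {V : Over X} (g : V ⟶ Red.bc p G) (v : V ⟶ T),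
      lift ((he p V G).symm g) ((Over.map p).map v ≫ τ) ≫ aZ.act =
        (Over.map p).map (lift g v ≫ a.act) ≫ τ := by
  haveI := isIso_prodMap_appTop p τ G
  obtain ⟨c₀, hc₀⟩ := GITLib.Rigid.exists_factor (prodMap p τ G).left
    (((Over.map p).map a.act ≫ τ).left)
  have hw : c₀ ≫ Z.hom = (G ⊗ Z).hom := by
    apply ext_of_isAffine
    rw [← cancel_mono (prodMap p τ G).left.appTop, ← Scheme.Hom.comp_appTop,
      ← Scheme.Hom.comp_appTop, ← Category.assoc, ← hc₀, Over.w, Over.w]
  let c : G ⊗ Z ⟶ Z := Over.homMk c₀ hw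
  have hc : prodMap p τ G ≫ c = (Over.map p).map a.act ≫ τ := Over.OverMorphism.ext hc₀.symm
  have key : ∀ {V : Over X} (g : V ⟶ Red.bc p G) (v : V ⟶ T),
      lift ((he p V G).symm g) ((Over.map p).map v ≫ τ) ≫ c =
        (Over.map p).map (lift g v ≫ a.act) ≫ τ := by
    intro V g v
    rw [← map_lift_prodMap, Category.assoc, hc, Functor.map_comp, Category.assoc]
  haveI : IsAffine (𝟙_ (Over (Spec (CommRingCat.of k)))).left :=
    inferInstanceAs (IsAffine (Spec (CommRingCat.of k)))
  haveI : IsAffineHom G.hom := inferInstance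
  haveI : IsAffine (G ⊗ G).left := inferInstanceAs (IsAffine (pullback G.hom G.hom))
  refine ⟨{ act := c, one_act := ?_, mul_act := ?_ }, key⟩
  · refine prodMap_cancel p τ ?_
    let V := Red.bc p (𝟙_ (Over (Spec (CommRingCat.of k)))) ⊗ T
    have e1 : prodMap p τ (𝟙_ (Over (Spec (CommRingCat.of k)))) ≫ η[G] ▷ Z =
        lift ((he p V G).symm 1) ((Over.map p).map (snd _ _) ≫ τ) := by
      rw [prodMap, lift_whiskerRight]
      congr 1
      rw [← he_one p, Equiv.symm_apply_apply, Hom.one_def]
      congr 1
      exact toUnit_unique _ _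
    rw [reassoc_of% e1, key, a.lift_one_act, prodMap, leftUnitor_hom, lift_snd]
  · refine prodMap_cancel p τ ?_
    let V := Red.bc p (G ⊗ G) ⊗ T
    let e := (he p V (G ⊗ G)).symm (fst _ _)
    let g₀ := he p V G (e ≫ fst G G)
    let g₁ := he p V G (e ≫ snd G G)
    have e1 : prodMap p τ (G ⊗ G) ≫ μ[G] ▷ Z =
        lift ((he p V G).symm (g₀ * g₁)) ((Over.map p).map (snd _ _) ≫ τ) := by
      rw [prodMap, lift_whiskerRight]
      congr 1
      rw [← AlgGrp.Action.homEquiv_mul, Equiv.symm_apply_apply, Hom.mul_def, ← comp_lift,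
        lift_fst_snd, Category.comp_id]
    have e2 : prodMap p τ (G ⊗ G) ≫ (α_ G G Z).hom =
        lift ((he p V G).symm g₀) (lift ((he p V G).symm g₁) ((Over.map p).map (snd _ _) ≫ τ)) := by
      simp only [g₀, g₁, Equiv.symm_apply_apply]
      apply CartesianMonoidalCategory.hom_ext
      · simp [prodMap, e, V]
      · apply CartesianMonoidalCategory.hom_ext <;> simp [prodMap, e, V]
    rw [reassoc_of% e1, reassoc_of% e2, lift_whiskerLeft_assoc, key, key, key, a.lift_mul_act]

end Groth.Agent.NoriLib
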