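/-
Quotient maps of a torsor by a sub-torsor, stabilisers of rational points, and monomorphisms
inheriting an action.
-/
import Groth.Agent.GITLib.Pushforward
import Groth.Agent.GITLib.TorsorSchMore
import Groth.Agent.UnipLib.FppfDesc
import Groth.Agent.LimTors.Basic

set_option autoImplicit false
set_option linter.style.haveILetI false

universe u

open CategoryTheory CategoryTheory.Limits MonoidalCategory CartesianMonoidalCategory MonObj GrpObj AlgebraicGeometry

namespace Groth.Agent.NoriLib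

open Groth.Agent.GITLib

variable {S : Scheme.{u}} {G H Q T V : Over S} [GrpObj G] [GrpObj H]

/-- A sub-torsor under `H` of a `G`-torsor gives an equivariant map to `G/H`. -/
theorem exists_quot_map (i : H ⟶ G) [IsMonHom i] (q : G ⟶ Q) (aQ : AlgGrp.Action G Q)
    (hq : ∀ {U : Over S} (g : U ⟶ G) (h : U ⟶ H), (g * (h ≫ i)) ≫ q = g ≫ q)
    (hequiv : ∀ {U : Over S} (g g' : U ⟶ G), (g * g') ≫ q = lift g (g' ≫ q) ≫ aQ.act)
    (a : AlgGrp.Action G T) (ha : NonAbH1.IsPseudoTorsorSch a)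
    (b : AlgGrp.Action H V) (hb : NonAbH1.IsTorsorFor Scheme.fpqcPrecoverage b) (j : V ⟶ T)
    (hj : ∀ {U : Over S} (h : U ⟶ H) (v : U ⟶ V),
      (lift h v ≫ b.act) ≫ j = lift (h ≫ i) (v ≫ j) ≫ a.act) :
    ∃ Φ : T ⟶ Q,
      (∀ {U : Over S} (g : U ⟶ G) (v : U ⟶ V), (lift g (v ≫ j) ≫ a.act) ≫ Φ = g ≫ q) ∧
      ∀ {U : Over S} (g : U ⟶ G) (t : U ⟶ T),
        (lift g t ≫ a.act) ≫ Φ = lift g (t ≫ Φ) ≫ aQ.act := by
  obtain ⟨Φ, hΦ⟩ := exists_desc_pt (T := T) (Z := Q) hb.2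
    (fun {U} f v => (existsUnique_diff ha (v ≫ j) f).choose ≫ q)
    (fun {U U'} l f v => by
      rw [← Category.assoc]
      congr 1
      refine (existsUnique_diff ha ((l ≫ v) ≫ j) (l ≫ f)).unique ?_
        (existsUnique_diff ha ((l ≫ v) ≫ j) (l ≫ f)).choose_spec.1
      rw [Category.assoc l v j, ← comp_lift_assoc, (existsUnique_diff ha (v ≫ j) f).choose_spec.1])
    (fun {U} f v v' => by
      obtain ⟨h, hh, -⟩ := existsUnique_diff hb.1 v v'
      have e : (existsUnique_diff ha (v ≫ j) f).choose =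
          (existsUnique_diff ha (v' ≫ j) f).choose * (h ≫ i) := by
        refine (existsUnique_diff ha (v ≫ j) f).unique
          (existsUnique_diff ha (v ≫ j) f).choose_spec.1 ?_
        rw [a.lift_mul_act, ← hj h v, hh, (existsUnique_diff ha (v' ≫ j) f).choose_spec.1]
      rw [e, hq])
  have h1 : ∀ {U : Over S} (g : U ⟶ G) (v : U ⟶ V), (lift g (v ≫ j) ≫ a.act) ≫ Φ = g ≫ q := by
    intro U g v
    rw [hΦ _ v]
    congr 1
    exact (existsUnique_diff ha (v ≫ j) _).unique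
      (existsUnique_diff ha (v ≫ j) _).choose_spec.1 rfl
  refine ⟨Φ, h1, fun {U} g t => hom_ext_q (pointSieve_mem hb.2 U) fun U' f hf => ?_⟩
  obtain ⟨v⟩ := hf
  obtain ⟨g', hg', -⟩ := existsUnique_diff ha (v ≫ j) (f ≫ t)
  rw [← Category.assoc f (lift g t ≫ a.act) Φ, comp_lift_assoc, comp_lift_assoc,
    ← Category.assoc f t Φ, ← hg', ← a.lift_mul_act, h1, h1, hequiv]

/-- An action restricts to a monomorphism stable on points. -/
theorem exists_action_of_mono (a : AlgGrp.Action G T) (i : H ⟶ G) [IsMonHom i] (j : V ⟶ T) [Mono j]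
    (hst : ∀ {U : Over S} (h : U ⟶ H) (v : U ⟶ V),
      ∃ w : U ⟶ V, w ≫ j = lift (h ≫ i) (v ≫ j) ≫ a.act) :
    ∃ b : AlgGrp.Action H V, ∀ {U : Over S} (h : U ⟶ H) (v : U ⟶ V),
      (lift h v ≫ b.act) ≫ j = lift (h ≫ i) (v ≫ j) ≫ a.act := by
  obtain ⟨act, hact⟩ := hst (fst H V) (snd H V)
  have key : ∀ {U : Over S} (h : U ⟶ H) (v : U ⟶ V),
      (lift h v ≫ act) ≫ j = lift (h ≫ i) (v ≫ j) ≫ a.act := by
    intro U h v
    rw [Category.assoc, hact, comp_lift_assoc, lift_fst_assoc, lift_snd_assoc]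
  have one : ∀ {U : Over S} (v : U ⟶ V), lift (1 : U ⟶ H) v ≫ act = v := fun v => by
    rw [← cancel_mono j, key, MonObj.one_comp, a.lift_one_act]
  let b : AlgGrp.Action H V :=
    { act := act
      one_act := by
        have := one (snd (𝟙_ (Over S)) V)
        rw [leftUnitor_hom, ← this]
        refine congrArg (fun w => w ≫ act) (CartesianMonoidalCategory.hom_ext _ _ ?_ ?_)
        · rw [whiskerRight_fst, lift_fst, Hom.one_def, toUnit_unique (toUnit _) (fst (𝟙_ (Over S)) V)]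
        · simp
      mul_act := by
        apply AlgGrp.Action.hom_ext_lift₃
        intro U g g' v
        rw [lift_whiskerRight_assoc, ← Hom.mul_def, lift_lift_associator_hom_assoc,
          lift_whiskerLeft_assoc, ← cancel_mono j, key, key, key, MonObj.mul_comp, a.lift_mul_act] }
  exact ⟨b, key⟩

variable {k : Type u} [Field k]

/-- The stabiliser of a rational point of a separated scheme is a closed subgroup. -/
theorem exists_stab_grp {G Q : Over (Spec (CommRingCat.of k))} [GrpObj G] [IsSeparated Q.hom]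
    (aQ : AlgGrp.Action G Q) (q₀ : 𝟙_ (Over (Spec (CommRingCat.of k))) ⟶ Q) :
    ∃ (N : Over (Spec (CommRingCat.of k))) (_ : GrpObj N) (i : N ⟶ G),
      IsMonHom i ∧ IsClosedImmersion i.left ∧
      ∀ {T : Over (Spec (CommRingCat.of k))} (g : T ⟶ G),
        lift g (toUnit T ≫ q₀) ≫ aQ.act = toUnit T ≫ q₀ ↔ ∃ z, z ≫ i = g := by
  let o : G ⟶ Q := aQ.orbitMap q₀
  have ho : ∀ {T : Over (Spec (CommRingCat.of k))} (g : T ⟶ G),
      g ≫ o = lift g (toUnit T ≫ q₀) ≫ aQ.act := fun g => by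
    show g ≫ lift (𝟙 G) (toUnit G ≫ q₀) ≫ aQ.act = _
    rw [comp_lift_assoc, Category.comp_id, comp_toUnit_assoc]
  let N := pullback o q₀
  let i : N ⟶ G := pullback.fst o q₀
  haveI : IsClosedImmersion q₀.left := by
    haveI : IsClosedImmersion (q₀.left ≫ Q.hom) := by
      rw [Over.w]
      exact inferInstanceAs (IsClosedImmersion (𝟙 (Spec (CommRingCat.of k))))
    exact IsClosedImmersion.of_comp q₀.left Q.hom
  haveI hi : IsClosedImmersion i.left :=
    MorphismProperty.of_isPullback ((IsPullback.of_hasPullback o q₀).map (Over.forget _)).flip ‹_›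
  haveI : Mono i.left := inferInstance
  haveI : Mono i := Over.mono_of_mono_left i
  have hiff : ∀ {T : Over (Spec (CommRingCat.of k))} (g : T ⟶ G),
      lift g (toUnit T ≫ q₀) ≫ aQ.act = toUnit T ≫ q₀ ↔ ∃ z, z ≫ i = g := fun {T} g => by
    rw [← ho]
    refine ⟨fun h => ⟨pullback.lift g (toUnit T) h, pullback.lift_fst _ _ _⟩, ?_⟩
    rintro ⟨z, rfl⟩
    rw [Category.assoc, pullback.condition, ← Category.assoc]
    congr 1
    exact toUnit_unique _ _
  have hfix : lift i (toUnit N ≫ q₀) ≫ aQ.act = toUnit N ≫ q₀ := (hiff i).mpr ⟨𝟙 N, Category.id_comp _⟩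
  have hfix' : ∀ {T : Over (Spec (CommRingCat.of k))} (z : T ⟶ N),
      lift (z ≫ i) (toUnit T ≫ q₀) ≫ aQ.act = toUnit T ≫ q₀ := fun z => (hiff _).mpr ⟨z, rfl⟩
  obtain ⟨m, hm⟩ := (hiff ((fst N N ≫ i) * (snd N N ≫ i))).mp (by
    rw [aQ.lift_mul_act, hfix', hfix'])
  obtain ⟨e, he⟩ := (hiff (1 : 𝟙_ (Over (Spec (CommRingCat.of k))) ⟶ G)).mp (by rw [aQ.lift_one_act])
  obtain ⟨v, hv⟩ := (hiff i⁻¹).mp (by
    conv_lhs => rw [← hfix]
    rw [← aQ.lift_mul_act, inv_mul_cancel, aQ.lift_one_act])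
  obtain ⟨g, hg⟩ := GrpScheme.SubgroupObj.exists_grpObj i
    ⟨m, hm.trans (by
      rw [Hom.mul_def]
      refine congrArg (· ≫ μ[G]) (CartesianMonoidalCategory.hom_ext _ _ ?_ ?_) <;> simp)⟩
    ⟨e, he.trans (by rw [Hom.one_def, toUnit_unique (toUnit _) (𝟙 _), Category.id_comp])⟩
    ⟨v, hv.trans (Hom.inv_def i)⟩
  exact ⟨N, g, i, hg, hi, fun {T} g => hiff g⟩

end Groth.Agent.NoriLib
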