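/-
A pointed torsor which is the image of the universal one along a faithfully flat homomorphism is
Nori-reduced, and conversely.
-/
import Groth.Agent.NoriLib.Basic
import Groth.Agent.NoriLib.SubTorsor
import Groth.Agent.GrpdLib.AffHomogeneous
import Groth.Agent.UnipLib.Image
import Mathlib.AlgebraicGeometry.Morphisms.Finite

set_option autoImplicit false
set_option linter.style.haveILetI false

universe u

open CategoryTheory CategoryTheory.Limits MonoidalCategory CartesianMonoidalCategory MonObj GrpObj AlgebraicGeometry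

namespace Groth.Agent.NoriLib

open Groth.Agent.GITLib

variable {k : Type u} [Field k] {X : Scheme.{u}} [X.Over (Spec (CommRingCat.of k))]

local notation "pX" => (X ↘ Spec (CommRingCat.of k))

set_option maxHeartbeats 800000 in
/-- A pointed torsor receiving the universal one along a faithfully flat homomorphism is
Nori-reduced. -/
theorem isNoriReduced_of_ptHom (x : Spec (CommRingCat.of k) ⟶ X) (hx : x ≫ pX = 𝟙 _)
    {π : Over (Spec (CommRingCat.of k))} [GrpObj π] {P : Over X}
    {a : AlgGrp.Action (Red.bc pX π) P} {p₀ : Spec (CommRingCat.of k) ⟶ P.left}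
    (hP : NoriFGS.IsFGS x π a p₀)
    {G : Over (Spec (CommRingCat.of k))} [GrpObj G] [IsFinite G.hom] {T : Over X}
    {b : AlgGrp.Action (Red.bc pX G) T} (hb : NonAbH1.IsTorsorFor Scheme.fpqcPrecoverage b)
    {t : Spec (CommRingCat.of k) ⟶ T.left} (ht : t ≫ T.hom = x)
    (ψ : π ⟶ G) [IsMonHom ψ] (hψ : UnipLib.Cover ψ) (f : P ⟶ T)
    (hf : NoriFGS.IsPtTorsorHom a p₀ b t ψ f) :
    NoriFGS.IsNoriReduced Scheme.fpqcPrecoverage b := by
  intro H _ i _ _ V j _ c hc hj
  haveI : IsFinite H.hom := by rw [← Over.w i]; infer_instance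
  haveI : IsAffine G.left := isAffine_of_isAffineHom G.hom
  haveI : Mono i := Over.mono_of_mono_left i
  obtain ⟨Q, pq, aQ, horb, hQlft, hQqc, hpqflat, hpqsurj, hsq⟩ :=
    GrpdLib.AffHomogeneous.exists_quotient G H i
  haveI hQfin : Finite Q.left := by
    haveI : IsArtinianScheme G.left := by
      haveI : IsLocallyArtinian G.left := IsLocallyArtinian.of_locallyQuasiFinite G.hom
      exact { toIsLocallyArtinian := inferInstance
              toCompactSpace := inferInstance }
    haveI : Finite G.left := inferInstance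
    exact Finite.of_surjective _ pq.left.surjective
  haveI : JacobsonSpace Q.left := LocallyOfFiniteType.jacobsonSpace Q.hom
  haveI : DiscreteTopology Q.left := inferInstance
  haveI : IsAffine Q.left := inferInstance
  haveI : IsSeparated Q.hom := inferInstance
  have hmul : (G ◁ i) ≫ μ[G] = fst G H * (snd G H ≫ i) := by
    rw [MonObj.mul_eq_mul, MonObj.comp_mul, whiskerLeft_fst, whiskerLeft_snd]
  have hqk : ∀ {U : Over (Spec (CommRingCat.of k))} (g : U ⟶ G) (h : U ⟶ H),
      (g * (h ≫ i)) ≫ pq = g ≫ pq := by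
    intro U g h
    have := congrArg (lift g h ≫ ·) hsq.w
    simp only [hmul, lift_fst_assoc] at this
    rw [this, ← Category.assoc, MonObj.comp_mul, lift_fst, lift_snd_assoc]
  have hqk' : ∀ {U : Over (Spec (CommRingCat.of k))} (g g' : U ⟶ G), g ≫ pq = g' ≫ pq →
      ∃ h : U ⟶ H, g * (h ≫ i) = g' := by
    intro U g g' e
    refine ⟨hsq.lift g g' e ≫ snd G H, ?_⟩
    have h1 := hsq.lift_fst g g' e
    have h2 := hsq.lift_snd g g' e
    have h3 := (congrArg (hsq.lift g g' e ≫ ·) hmul).symm.trans h2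
    simp only [MonObj.comp_mul, h1] at h3
    rw [Category.assoc]
    exact h3
  let o : 𝟙_ (Over (Spec (CommRingCat.of k))) ⟶ Q := η[G] ≫ pq
  have horb' : ∀ {U : Over (Spec (CommRingCat.of k))} (g : U ⟶ G),
      g ≫ pq = lift g (toUnit U ≫ o) ≫ aQ.act := by
    intro U g
    conv_lhs => rw [← horb]
    show g ≫ lift (𝟙 G) (toUnit G ≫ o) ≫ aQ.act = _
    rw [comp_lift_assoc, Category.comp_id, comp_toUnit_assoc]
  have hequivk : ∀ {U : Over (Spec (CommRingCat.of k))} (g g' : U ⟶ G),
      (g * g') ≫ pq = lift g (g' ≫ pq) ≫ aQ.act := by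
    intro U g g'
    rw [horb', horb', aQ.lift_mul_act]
  -- over the base
  have hq' : ∀ {U : Over X} (g : U ⟶ Red.bc pX G) (h : U ⟶ Red.bc pX H),
      (g * (h ≫ (Over.pullback pX).map i)) ≫ (Over.pullback pX).map pq =
        g ≫ (Over.pullback pX).map pq := by
    intro U g h
    obtain ⟨g₀, rfl⟩ := (he pX U G).surjective g
    obtain ⟨h₀, rfl⟩ := (he pX U H).surjective h
    rw [← he_naturality_right, ← AlgGrp.Action.homEquiv_mul, ← he_naturality_right,
      ← he_naturality_right, hqk]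
  have hequiv' : ∀ {U : Over X} (g g' : U ⟶ Red.bc pX G),
      (g * g') ≫ (Over.pullback pX).map pq =
        lift g (g' ≫ (Over.pullback pX).map pq) ≫ (aQ.bc pX).act := by
    intro U g g'
    obtain ⟨g₀, rfl⟩ := (he pX U G).surjective g
    obtain ⟨g₁, rfl⟩ := (he pX U G).surjective g'
    rw [← AlgGrp.Action.homEquiv_mul, ← he_naturality_right, ← he_naturality_right,
      AlgGrp.Action.lift_homEquiv_bc_act, hequivk]
  obtain ⟨Φ, hΦ₁, hΦ₂⟩ := exists_quot_map ((Over.pullback pX).map i) ((Over.pullback pX).map pq)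
    (aQ.bc pX) hq' hequiv' b hb.1 c hc j (fun h v => equiv_pt hj h v)
  obtain ⟨q₀, hq₀⟩ := exists_eq_cst pX x hx ((Over.homMk t ht : Over.mk x ⟶ T) ≫ Φ)
  obtain ⟨N, _, iN, _, _, hN⟩ := exists_stab_grp aQ q₀
  haveI : IsFinite N.hom := by rw [← Over.w iN]; infer_instance
  -- the sub-torsor
  let J : Over X := pullback Φ (cst pX q₀ (𝟙_ (Over X)))
  let jJ : J ⟶ T := pullback.fst Φ (cst pX q₀ (𝟙_ (Over X)))
  haveI : Mono (cst pX q₀ (𝟙_ (Over X))) :=
    ⟨fun _ _ _ => toUnit_unique _ _⟩
  haveI : Mono jJ := inferInstance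
  have hmemJ : ∀ {U : Over X} (v : U ⟶ T), v ≫ Φ = cst pX q₀ U → ∃ w : U ⟶ J, w ≫ jJ = v := by
    intro U v hv
    exact ⟨pullback.lift v (toUnit U) (by rw [hv, comp_cst]), pullback.lift_fst _ _ _⟩
  have hjJ : ∀ {U : Over X} (w : U ⟶ J), (w ≫ jJ) ≫ Φ = cst pX q₀ U := by
    intro U w
    rw [Category.assoc, pullback.condition, comp_cst, comp_cst]
  have hfix : ∀ {U : Over X} (g : U ⟶ Red.bc pX G),
      lift g (cst pX q₀ U) ≫ (aQ.bc pX).act = cst pX q₀ U ↔
        ∃ z : U ⟶ Red.bc pX N, z ≫ (Over.pullback pX).map iN = g := by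
    intro U g
    obtain ⟨g₀, rfl⟩ := (he pX U G).surjective g
    rw [cst, AlgGrp.Action.lift_homEquiv_bc_act, (he pX U Q).injective.eq_iff, hN]
    constructor
    · rintro ⟨z, hz⟩
      exact ⟨he pX U N z, by rw [← he_naturality_right, hz]⟩
    · rintro ⟨z, hz⟩
      refine ⟨(he pX U N).symm z, ?_⟩
      rw [← he_symm_naturality_right, hz, Equiv.symm_apply_apply]
  obtain ⟨bJ, hbJ⟩ := exists_action_of_mono b ((Over.pullback pX).map iN) jJ (fun {U} h w => by
    refine hmemJ _ ?_
    rw [hΦ₂, hjJ]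
    exact (hfix _).mpr ⟨h, rfl⟩)
  have hpseudoJ : NonAbH1.IsPseudoTorsorSch bJ := by
    refine LimTors.isPseudoTorsor_of_existsUnique bJ fun {U} v w => ?_
    obtain ⟨g, hg, hu⟩ := existsUnique_diff hb.1 (v ≫ jJ) (w ≫ jJ)
    obtain ⟨z, hz⟩ := (hfix g).mp (by
      have := congrArg (· ≫ Φ) hg
      rwa [hΦ₂, hjJ, hjJ] at this)
    refine ⟨z, ?_, fun z' hz' => ?_⟩
    · show lift z v ≫ bJ.act = w
      rw [← cancel_mono jJ, hbJ, hz, hg]
    · haveI : Mono iN := Over.mono_of_mono_left iN
      haveI : Mono ((Over.pullback pX).map iN) := inferInstance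
      rw [← cancel_mono ((Over.pullback pX).map iN), hz]
      exact hu _ (by show lift _ _ ≫ b.act = _; rw [← hbJ, hz'])
  -- the fibre over the rational point
  let C : Over (Spec (CommRingCat.of k)) := pullback pq q₀
  have hsqC := (IsPullback.of_hasPullback pq q₀).map (Over.forget _)
  have hCcond : pullback.fst pq q₀ ≫ pq = toUnit C ≫ q₀ := by
    rw [pullback.condition]
    exact congrArg (· ≫ q₀) (toUnit_unique _ _)
  haveI hCflat : Flat (pullback.snd pq q₀).left := MorphismProperty.of_isPullback hsqC hpqflat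
  haveI hCsurj : Surjective (pullback.snd pq q₀).left :=
    MorphismProperty.of_isPullback hsqC hpqsurj
  haveI hpqqc : QuasiCompact pq.left :=
    haveI : QuasiCompact (pq.left ≫ Q.hom) := by rw [Over.w]; infer_instance
    QuasiCompact.of_comp pq.left Q.hom
  haveI hCqc : QuasiCompact (pullback.snd pq q₀).left :=
    MorphismProperty.of_isPullback hsqC hpqqc
  have eC : C.hom = (pullback.snd pq q₀).left := by
    rw [← Over.w (pullback.snd pq q₀)]
    exact Category.comp_id _
  haveI : Flat C.hom := eC ▸ hCflat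
  haveI : Surjective C.hom := eC ▸ hCsurj
  haveI : QuasiCompact C.hom := eC ▸ hCqc
  have hJloc : NonAbH1.IsLocallyTrivialFor Scheme.fpqcPrecoverage J := by
    haveI : Flat V.hom := by
      haveI : Flat (Red.bc pX H).hom := MorphismProperty.pullback_snd _ _ inferInstance
      exact property_of_torsor @Flat hc inferInstance
    haveI : Surjective V.hom := surjective_of_isLocallyTrivialFor hc.2
    haveI : IsAffineHom V.hom := by
      haveI : MorphismProperty.DescendsAlong @IsAffineHom AlgSpCov.Fpqc.{u} :=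
        FpqcDesc.descendsAlong_isAffineHom
      haveI : IsAffineHom (Red.bc pX H).hom := MorphismProperty.pullback_snd _ _ inferInstance
      exact property_of_torsor @IsAffineHom hc inferInstance
    let U : Over X := V ⊗ Red.bc pX C
    haveI : Flat (Red.bc pX C).hom := MorphismProperty.pullback_snd _ _ inferInstance
    haveI : Surjective (Red.bc pX C).hom := MorphismProperty.pullback_snd _ _ inferInstance
    haveI : QuasiCompact (Red.bc pX C).hom := MorphismProperty.pullback_snd _ _ inferInstance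
    haveI : Flat U.hom := by
      show Flat (pullback.fst V.hom (Red.bc pX C).hom ≫ V.hom)
      infer_instance
    haveI : Surjective U.hom := by
      show Surjective (pullback.fst V.hom (Red.bc pX C).hom ≫ V.hom)
      infer_instance
    haveI : QuasiCompact U.hom := by
      show QuasiCompact (pullback.fst V.hom (Red.bc pX C).hom ≫ V.hom)
      infer_instance
    obtain ⟨w, -⟩ := hmemJ (lift (snd V (Red.bc pX C) ≫ (Over.pullback pX).map (pullback.fst pq q₀))
      (fst V (Red.bc pX C) ≫ j) ≫ b.act) (by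
        rw [hΦ₁, Category.assoc, ← Functor.map_comp]
        obtain ⟨e, he'⟩ := (he pX U C).surjective (snd V (Red.bc pX C))
        rw [← he', ← he_naturality_right, hCcond, comp_toUnit_assoc]
        rfl)
    refine ⟨Presieve.singleton U.hom, Scheme.Hom.singleton_mem_fpqcPrecoverage U.hom, ?_⟩
    rintro _ _ ⟨⟩
    exact ⟨w.left, Over.w w⟩
  obtain ⟨wt, hwt⟩ := hmemJ (Over.homMk t ht : Over.mk x ⟶ T) hq₀.symm
  obtain ⟨-, -, -, huniv⟩ := hP
  obtain ⟨ψ', _, f', hf', -⟩ := huniv N J bJ wt.left ⟨hpseudoJ, hJloc⟩ (Over.w wt)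
  have hjJpt : NoriFGS.IsPtTorsorHom bJ wt.left b t iN jJ :=
    ⟨equivariant_of_pt fun U g v => hbJ g v, congrArg CommaMorphism.left hwt⟩
  obtain ⟨ψ₀, _, f₀, -, huq⟩ := huniv G T b t hb ht
  have hψeq : ψ = ψ' ≫ iN := (huq ψ f hf).1.trans (huq _ _ (ptHom_comp hf' hjJpt)).1.symm
  haveI : Mono iN := Over.mono_of_mono_left iN
  obtain ⟨sN, hsN⟩ := hψ.exists_desc ψ' (fun {U} u v e => by
    rw [← cancel_mono iN, Category.assoc, Category.assoc, ← hψeq, e])
  haveI := hψ.epi
  have hsN' : sN ≫ iN = 𝟙 G := by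
    rw [← cancel_epi ψ, ← Category.assoc, hsN, ← hψeq, Category.comp_id]
  have hallfix : ∀ {U : Over (Spec (CommRingCat.of k))} (g : U ⟶ G),
      lift g (toUnit U ≫ q₀) ≫ aQ.act = toUnit U ≫ q₀ := fun g =>
    (hN g).mpr ⟨g ≫ sN, by rw [Category.assoc, hsN', Category.comp_id]⟩
  -- `q₀` is the base point
  have hoq : o = q₀ := by
    have hcov : UnipLib.Cover (toUnit C) :=
      ⟨by rw [Over.toUnit_left]; infer_instance, by rw [Over.toUnit_left]; infer_instance,
        by rw [Over.toUnit_left]; infer_instance⟩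
    haveI := hcov.epi
    rw [← cancel_epi (toUnit C)]
    let g := pullback.fst pq q₀
    calc toUnit C ≫ o = lift (g⁻¹ * g) (toUnit C ≫ o) ≫ aQ.act := by
          rw [inv_mul_cancel, aQ.lift_one_act]
      _ = lift g⁻¹ (toUnit C ≫ q₀) ≫ aQ.act := by rw [aQ.lift_mul_act, ← horb', hCcond]
      _ = toUnit C ≫ q₀ := hallfix _
  obtain ⟨z, hz⟩ := hqk' (1 : G ⟶ G) (𝟙 G) (by
    rw [horb', horb', hoq, hallfix, hallfix])
  rw [_root_.one_mul] at hz
  haveI : IsIso i := ⟨z, by rw [← cancel_mono i, Category.assoc, hz, Category.comp_id, Category.id_comp], hz⟩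
  haveI : Mono j := Over.mono_of_mono_left j
  refine isIso_of_mono_of_lifts_q j (pointSieve_mem hc.2 T) fun U l hl => ?_
  obtain ⟨v⟩ := hl
  obtain ⟨g, hg, -⟩ := existsUnique_diff hb.1 (v ≫ j) l
  refine ⟨lift (g ≫ inv ((Over.pullback pX).map i)) v ≫ c.act, ?_⟩
  rw [equiv_pt hj, Category.assoc, IsIso.inv_hom_id, Category.comp_id, hg]

/-- A pro-finite group is affine. -/
theorem isAffineHom_of_isProFinite {π : Over (Spec (CommRingCat.of k))} [GrpObj π]
    (h : NoriFGS.IsProFinite π) : IsAffineHom π.hom := by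
  obtain ⟨R⟩ := h
  letI := R.cat
  letI := R.cofiltered
  haveI : ∀ i, IsAffineHom (R.D.obj i).hom := fun i => by
    haveI := R.finite i
    infer_instance
  exact LimTors.isAffineHom_pt R.D R.isLimit

omit [X.Over (Spec (CommRingCat.of k))] in
/-- A homomorphism from an affine group to a finite one has a finite image. -/
theorem exists_finite_image {π G : Over (Spec (CommRingCat.of k))} [GrpObj π] [GrpObj G]
    [IsAffineHom π.hom] [IsFinite G.hom] (ψ : π ⟶ G) [IsMonHom ψ] :
    ∃ (K : Over (Spec (CommRingCat.of k))) (_ : GrpObj K) (_ : IsFinite K.hom) (e : π ⟶ K)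
      (_ : IsMonHom e) (j : K ⟶ G) (_ : IsMonHom j),
      UnipLib.Cover e ∧ IsClosedImmersion j.left ∧ e ≫ j = ψ := by
  haveI : IsAffine π.left := isAffine_of_isAffineHom π.hom
  haveI : IsAffine G.left := isAffine_of_isAffineHom G.hom
  obtain ⟨K, _, e, j, he, hj, hK, hef, hes, hjc, hfac⟩ := UnipLib.exists_image ψ
  haveI := hjc
  haveI : IsFinite K.hom := by rw [← Over.w j]; infer_instance
  have hqc : QuasiCompact e.left :=
    haveI : QuasiCompact (e.left ≫ K.hom) := by rw [Over.w]; infer_instance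
    QuasiCompact.of_comp e.left K.hom
  exact ⟨K, inferInstance, inferInstance, e, he, j, hj, ⟨hef, hes, hqc⟩, hjc, hfac⟩

/-- The universal torsor maps onto Nori-reduced pointed torsors. -/
theorem cover_of_isNoriReduced (x : Spec (CommRingCat.of k) ⟶ X) (hx : x ≫ pX = 𝟙 _)
    {π : Over (Spec (CommRingCat.of k))} [GrpObj π] {P : Over X}
    {a : AlgGrp.Action (Red.bc pX π) P} {p₀ : Spec (CommRingCat.of k) ⟶ P.left}
    (hP : NoriFGS.IsFGS x π a p₀)
    {G : Over (Spec (CommRingCat.of k))} [GrpObj G] [IsFinite G.hom] {T : Over X}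
    {b : AlgGrp.Action (Red.bc pX G) T} (hb : NonAbH1.IsTorsorFor Scheme.fpqcPrecoverage b)
    (hred : NoriFGS.IsNoriReduced Scheme.fpqcPrecoverage b)
    {t : Spec (CommRingCat.of k) ⟶ T.left}
    (ψ : π ⟶ G) [IsMonHom ψ] (f : P ⟶ T) (hf : NoriFGS.IsPtTorsorHom a p₀ b t ψ f) :
    UnipLib.Cover ψ := by
  obtain ⟨hpro, ha, hp₀, -⟩ := hP
  haveI : IsAffineHom π.hom := isAffineHom_of_isProFinite hpro
  obtain ⟨K, _, _, e, _, jj, _, hcov, hjc, hfac⟩ := exists_finite_image ψ
  subst hfac
  haveI := hjc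
  haveI : Mono jj := Over.mono_of_mono_left jj
  obtain ⟨U, bU, q, hU, hq⟩ := exists_pushforward_pt e a ha p₀
  have hq' : a.act ≫ q = lift (fst (Red.bc pX π) P ≫ (Over.pullback pX).map e)
      (snd (Red.bc pX π) P ≫ q) ≫ bU.act := by
    have := equiv_pt hq.1 (fst (Red.bc pX π) P) (snd (Red.bc pX π) P)
    rwa [lift_fst_snd, Category.id_comp] at this
  have hf' : a.act ≫ f = lift (fst (Red.bc pX π) P ≫ (Over.pullback pX).map e ≫
      (Over.pullback pX).map jj) (snd (Red.bc pX π) P ≫ f) ≫ b.act := by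
    have := equiv_pt hf.1 (fst (Red.bc pX π) P) (snd (Red.bc pX π) P)
    rw [lift_fst_snd, Category.id_comp, Functor.map_comp] at this
    exact this
  obtain ⟨r, ⟨hr, hqr⟩, -⟩ := existsUnique_pushforward ((Over.pullback pX).map e)
    ((Over.pullback pX).map jj) a bU b ha hU.1 q hq' f hf'
  have hrpt : ∀ (V : Over X) (g : V ⟶ Red.bc pX K) (v : V ⟶ U),
      (lift g v ≫ bU.act) ≫ r = lift (g ≫ (Over.pullback pX).map jj) (v ≫ r) ≫ b.act := by
    intro V g v
    rw [Category.assoc, hr, comp_lift_assoc, lift_fst_assoc, lift_snd_assoc]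
  haveI : Mono r := ⟨fun {V} u v h => by
    obtain ⟨g, hg, -⟩ := existsUnique_diff hU.1 u v
    have h1 : g ≫ (Over.pullback pX).map jj = 1 := by
      refine eq_one_of_fixed hb.1 _ (u ≫ r) ?_
      rw [← hrpt, hg, h]
    have h2 : g = 1 := by
      rw [← cancel_mono ((Over.pullback pX).map jj), h1, MonObj.one_comp]
    rw [← hg, h2, bU.lift_one_act]⟩
  haveI hfinU : IsFinite U.hom := by
    haveI : MorphismProperty.DescendsAlong @IsFinite.{u} AlgSpCov.Fpqc :=
      FpqcDesc.descendsAlong_isFinite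
    exact property_of_torsor @IsFinite hU (MorphismProperty.pullback_snd _ _ inferInstance)
  haveI hfinT : IsFinite T.hom := by
    haveI : MorphismProperty.DescendsAlong @IsFinite.{u} AlgSpCov.Fpqc :=
      FpqcDesc.descendsAlong_isFinite
    exact property_of_torsor @IsFinite hb (MorphismProperty.pullback_snd _ _ inferInstance)
  haveI : IsClosedImmersion r.left := by
    rw [IsClosedImmersion.iff_isFinite_and_mono]
    refine ⟨?_, inferInstanceAs (Mono ((Over.forget X).map r))⟩
    haveI : IsFinite (r.left ≫ T.hom) := by rw [Over.w]; infer_instance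
    exact IsFinite.of_comp r.left T.hom
  haveI : IsIso r := hred K jj U r bU hU (equivariant_of_pt hrpt)
  obtain ⟨m, -⟩ := exists_eq_pt pX x hx G
  let V : Over X := Over.mk (G.hom ≫ x)
  let u₀ : Spec (CommRingCat.of k) ⟶ U.left := p₀ ≫ q.left
  let u' : V ⟶ U := Over.homMk (G.hom ≫ u₀) (by
    show (G.hom ≫ p₀ ≫ q.left) ≫ U.hom = G.hom ≫ x
    rw [Category.assoc, Category.assoc, Over.w q, hp₀])
  let g := he pX V G m.inv
  obtain ⟨g', hg', -⟩ := existsUnique_diff hU.1 u' ((lift g (u' ≫ r) ≫ b.act) ≫ inv r)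
  have hg'' : g' ≫ (Over.pullback pX).map jj = g := by
    refine (existsUnique_diff hb.1 (u' ≫ r) _).unique ?_ rfl
    rw [← hrpt, hg', Category.assoc, IsIso.inv_hom_id, Category.comp_id]
  have hz : (m.hom ≫ (he pX V K).symm g') ≫ jj = 𝟙 G := by
    rw [Category.assoc, ← he_symm_naturality_right, hg'', Equiv.symm_apply_apply, Iso.hom_inv_id]
  haveI : IsIso jj := ⟨_, by
    rw [← cancel_mono jj, Category.assoc, hz, Category.comp_id, Category.id_comp], hz⟩
  haveI : IsIso jj.left := inferInstanceAs (IsIso ((Over.forget _).map jj))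
  haveI := hcov.flat
  haveI := hcov.surj
  haveI := hcov.qc
  exact ⟨by rw [Over.comp_left]; infer_instance, by rw [Over.comp_left]; infer_instance,
    by rw [Over.comp_left]; infer_instance⟩

end Groth.Agent.NoriLib
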