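/-
Pro-finite groups over a field: functions come from finite stages, and detection of faithfully flat
homomorphisms and closed immersions on finite quotients.
-/
import Groth.Agent.NoriLib.Reduced
import Groth.Agent.GrpScheme.GlobalSections

set_option autoImplicit false
set_option linter.style.haveILetI false

universe u

open CategoryTheory CategoryTheory.Limits MonoidalCategory CartesianMonoidalCategory MonObj GrpObj AlgebraicGeometry

namespace Groth.Agent.NoriLib

variable {k : Type u} [Field k]

attribute [local instance] IsCofiltered.isConnected NoriFGS.ProFinPres.cat NoriFGS.ProFinPres.cofiltered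

/-- Functions on a pro-finite group come from finite stages. -/
theorem exists_appTop_eq {π : Over (Spec (CommRingCat.of k))} [GrpObj π] (R : NoriFGS.ProFinPres π)
    (a : Γ(π.left, ⊤)) :
    ∃ (i : R.I) (b : Γ((R.D.obj i).left, ⊤)), (R.π.app i).left.appTop b = a := by
  haveI hD : ∀ i : R.I, IsAffineHom (R.D.obj i).hom := fun i => by
    haveI := R.finite i
    infer_instance
  let D₀ := R.D ⋙ Over.forget (Spec (CommRingCat.of k))
  have haff : ∀ i : R.I, IsAffine (D₀.obj i) := fun i =>
    @isAffine_of_isAffineHom _ _ (R.D.obj i).hom (hD i) inferInstance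
  haveI (j : R.Iᵒᵖ) : IsAffine (D₀.op.obj j).unop := haff _
  let C := (Over.forget (Spec (CommRingCat.of k))).mapCone (Cone.mk π R.π)
  haveI : IsAffineHom π.hom := isAffineHom_of_isProFinite ⟨R⟩
  haveI : IsAffine C.pt := @isAffine_of_isAffineHom _ _ π.hom (isAffineHom_of_isProFinite ⟨R⟩) inferInstance
  have hC : IsLimit C := LimTors.isLimitForget R.D R.isLimit
  have hcol := isColimitOfPreserves Scheme.Γ hC.op
  obtain ⟨j, b, hb⟩ := Types.jointly_surjective_of_isColimit
    (isColimitOfPreserves (forget CommRingCat) hcol) a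
  exact ⟨j.unop, b, hb⟩

/-- A closed immersion into an affine scheme injective on functions is an isomorphism. -/
theorem isIso_of_closedImmersion_appTop_injective {A B : Scheme.{u}} (j : A ⟶ B) [IsAffine B]
    [IsClosedImmersion j] (h : Function.Injective j.appTop) : IsIso j := by
  obtain ⟨hA, hs⟩ := IsClosedImmersion.isAffine_surjective_of_isAffine j
  haveI := hA
  haveI : IsIso j.appTop := (ConcreteCategory.isIso_iff_bijective _).mpr ⟨h, hs⟩
  have e : j = A.isoSpec.hom ≫ Spec.map j.appTop ≫ B.isoSpec.inv := by
    rw [← Category.assoc, Iso.eq_comp_inv, Scheme.isoSpec_hom_naturality]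
  rw [e]
  infer_instance

/-- A homomorphism to a pro-finite group is faithfully flat if it is so onto every finite
quotient. -/
theorem cover_of_forall_quotient {π' π : Over (Spec (CommRingCat.of k))} [GrpObj π'] [GrpObj π]
    [IsAffineHom π'.hom] (R : NoriFGS.ProFinPres π) (φ : π' ⟶ π) [IsMonHom φ]
    (h : ∀ (K : Over (Spec (CommRingCat.of k))) [GrpObj K] [IsFinite K.hom] (e : π ⟶ K) [IsMonHom e],
      UnipLib.Cover e → UnipLib.Cover (φ ≫ e)) :
    UnipLib.Cover φ := by
  haveI : IsAffineHom π.hom := isAffineHom_of_isProFinite ⟨R⟩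
  haveI : IsAffine π.left := isAffine_of_isAffineHom π.hom
  haveI : IsAffine π'.left := isAffine_of_isAffineHom π'.hom
  obtain ⟨L, _, e₀, j, _, _, hL, hef, hes, hjc, hfac⟩ := UnipLib.exists_image φ
  haveI := hjc
  haveI := hL
  haveI : IsIso j.left := by
    refine isIso_of_closedImmersion_appTop_injective j.left ?_
    rw [injective_iff_map_eq_zero]
    intro a ha
    obtain ⟨i, b, rfl⟩ := exists_appTop_eq R a
    letI := R.grp i
    haveI := R.finite i
    haveI := R.isMonHom_π i
    let π₀ : π ⟶ R.D.obj i := R.π.app i
    obtain ⟨K, _, _, e, _, jj, _, hcov, -, hjj⟩ := exists_finite_image π₀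
    have hb : π₀.left.appTop b = e.left.appTop (jj.left.appTop b) := by
      rw [← hjj, Over.comp_left, Scheme.Hom.comp_appTop]
      rfl
    obtain ⟨hf, hs, hq⟩ := h K e hcov
    haveI := hf; haveI := hs; haveI := hq
    have h0 : (φ ≫ e).left.appTop (jj.left.appTop b) = 0 := by
      rw [← hfac, Category.assoc, Over.comp_left, Over.comp_left, Scheme.Hom.comp_appTop,
        Scheme.Hom.comp_appTop]
      show e₀.left.appTop (j.left.appTop (e.left.appTop (jj.left.appTop b))) = 0
      rw [← hb]
      exact (congrArg e₀.left.appTop ha).trans (map_zero _)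
    have h1 : jj.left.appTop b = 0 :=
      GrpScheme.GlobalSections.appTop_injective (φ ≫ e).left (h0.trans (map_zero _).symm)
    show π₀.left.appTop b = 0
    rw [hb, h1, map_zero]
  haveI := hef
  haveI := hes
  haveI : QuasiCompact e₀.left :=
    haveI : QuasiCompact (e₀.left ≫ L.hom) := by rw [Over.w]; infer_instance
    QuasiCompact.of_comp e₀.left L.hom
  rw [← hfac]
  exact ⟨by rw [Over.comp_left]; infer_instance, by rw [Over.comp_left]; infer_instance,
    by rw [Over.comp_left]; infer_instance⟩

end Groth.Agent.NoriLib
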