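/-
Pull back of pointed torsors along a morphism of pointed schemes over a field.
-/
import Groth.Agent.NoriLib.Reduced

set_option autoImplicit false
set_option linter.style.haveILetI false

universe u

open CategoryTheory CategoryTheory.Limits MonoidalCategory CartesianMonoidalCategory MonObj GrpObj AlgebraicGeometry

namespace Groth.Agent.NoriLib

open Groth.Agent.GITLib

variable {k : Type u} [Field k] {X Y : Scheme.{u}} [X.Over (Spec (CommRingCat.of k))]
  [Y.Over (Spec (CommRingCat.of k))]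

variable (f : X ⟶ Y) (hf : f ≫ (Y ↘ Spec (CommRingCat.of k)) = X ↘ Spec (CommRingCat.of k))

local notation "pX" => (X ↘ Spec (CommRingCat.of k))
local notation "pY" => (Y ↘ Spec (CommRingCat.of k))

variable {G : Over (Spec (CommRingCat.of k))} [GrpObj G] {U : Over Y}

/-- The base-changed action, as an action of the base change of the group over the field. -/
noncomputable abbrev pullAct (c : AlgGrp.Action (Red.bc pY G) U) :
    AlgGrp.Action (Red.bc pX G) (Red.bc f U) :=
  (c.bc f).restrict (ActBC.bcCompIso f pY G hf).inv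

theorem isTorsorFor_pullAct {c : AlgGrp.Action (Red.bc pY G) U}
    (hc : NonAbH1.IsTorsorFor Scheme.fpqcPrecoverage c) :
    NonAbH1.IsTorsorFor Scheme.fpqcPrecoverage (pullAct f hf c) := by
  obtain ⟨h1, h2⟩ := NonAbH1.isTorsorFor_bc f Scheme.fpqcPrecoverage hc
  refine ⟨?_, h2⟩
  haveI : IsIso (lift (c.bc f).act (snd (Red.bc f (Red.bc pY G)) (Red.bc f U))) := h1
  let φ := (ActBC.bcCompIso f pY G hf).inv
  show IsIso (lift ((φ ▷ Red.bc f U) ≫ (c.bc f).act) (snd (Red.bc pX G) (Red.bc f U)))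
  rw [show lift ((φ ▷ Red.bc f U) ≫ (c.bc f).act) (snd (Red.bc pX G) (Red.bc f U)) =
    (φ ▷ Red.bc f U) ≫ lift (c.bc f).act (snd (Red.bc f (Red.bc pY G)) (Red.bc f U)) by
    rw [comp_lift, whiskerRight_snd]]
  infer_instance

variable (x : Spec (CommRingCat.of k) ⟶ X) (y : Spec (CommRingCat.of k) ⟶ Y) (hfx : x ≫ f = y)

/-- The point of the pull back over the base point. -/
noncomputable def pullPt (u : Spec (CommRingCat.of k) ⟶ U.left) (hu : u ≫ U.hom = y) :
    Spec (CommRingCat.of k) ⟶ (Red.bc f U).left :=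
  pullback.lift u x (hu.trans hfx.symm)

theorem pullPt_hom (u : Spec (CommRingCat.of k) ⟶ U.left) (hu : u ≫ U.hom = y) :
    pullPt f x y hfx u hu ≫ (Red.bc f U).hom = x :=
  pullback.lift_snd _ _ _

theorem eq_pullPt (u : Spec (CommRingCat.of k) ⟶ U.left) (hu : u ≫ U.hom = y)
    (t : Spec (CommRingCat.of k) ⟶ (Red.bc f U).left)
    (h₁ : t ≫ pullback.fst U.hom f = u) (h₂ : t ≫ (Red.bc f U).hom = x) :
    t = pullPt f x y hfx u hu := by
  apply pullback.hom_ext
  · exact h₁.trans (pullback.lift_fst _ _ _).symm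
  · exact h₂.trans (pullback.lift_snd _ _ _).symm

variable {πX πY : Over (Spec (CommRingCat.of k))} [GrpObj πX] [GrpObj πY] {PX : Over X} {PY : Over Y}
  {aX : AlgGrp.Action (Red.bc (X ↘ Spec (CommRingCat.of k)) πX) PX}
  {aY : AlgGrp.Action (Red.bc (Y ↘ Spec (CommRingCat.of k)) πY) PY}
  {pX₀ : Spec (CommRingCat.of k) ⟶ PX.left} {pY₀ : Spec (CommRingCat.of k) ⟶ PY.left}

/-- The composite of the induced homomorphism with a morphism of pointed torsors on the target. -/
theorem exists_ptHom_pull (hpX₀ : pX₀ ≫ PX.hom = x)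
    {φ : πX ⟶ πY} (hφ : NoriFGS.IsInducedHom f hf aX pX₀ aY pY₀ φ)
    {c : AlgGrp.Action (Red.bc pY G) U} (u : Spec (CommRingCat.of k) ⟶ U.left) (hu : u ≫ U.hom = y)
    (ψ : πY ⟶ G) [IsMonHom ψ] (h : PY ⟶ U) (hh : NoriFGS.IsPtTorsorHom aY pY₀ c u ψ h) :
    ∃ (_ : IsMonHom φ) (g : PX ⟶ Red.bc f U),
      NoriFGS.IsPtTorsorHom aX pX₀ (pullAct f hf c) (pullPt f x y hfx u hu) (φ ≫ ψ) g := by
  obtain ⟨hmon, g, hg, hgp⟩ := hφ
  refine ⟨hmon, g ≫ (Over.pullback f).map h, equivariant_of_pt fun V e v => ?_, ?_⟩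
  · let I := ActBC.bcCompIso f pY πX hf
    have e1 : (lift e v ≫ aX.act) ≫ g =
        lift ((e ≫ I.inv) ≫ (Over.pullback f).map ((Over.pullback pY).map φ)) (v ≫ g) ≫
          (aY.bc f).act := by
      have := congrArg (lift (e ≫ I.inv) v ≫ ·) hg
      simp only [lift_whiskerLeft_assoc, AlgGrp.Action.lift_restrict_act] at this
      rw [← Category.assoc, AlgGrp.Action.lift_restrict_act, Category.assoc e,
        Iso.inv_hom_id, Category.comp_id] at this
      exact this
    have hh' := AlgGrp.Action.isEquivariant_bc f hh.1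
    rw [AlgGrp.Action.bc_restrict] at hh'
    have e2 : ∀ (e' : V ⟶ Red.bc f (Red.bc pY πY)) (w : V ⟶ Red.bc f PY),
        (lift e' w ≫ (aY.bc f).act) ≫ (Over.pullback f).map h =
          lift (e' ≫ (Over.pullback f).map ((Over.pullback pY).map ψ))
            (w ≫ (Over.pullback f).map h) ≫ (c.bc f).act := fun e' w => by
      rw [Category.assoc, hh', lift_whiskerLeft_assoc, AlgGrp.Action.lift_restrict_act]
    have hnat : (Over.pullback pX).map (φ ≫ ψ) ≫ (ActBC.bcCompIso f pY G hf).inv =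
        I.inv ≫ (Over.pullback f).map ((Over.pullback pY).map φ) ≫
          (Over.pullback f).map ((Over.pullback pY).map ψ) := by
      rw [← Functor.map_comp, ← Functor.map_comp, Iso.eq_inv_comp, ← Category.assoc,
        Iso.comp_inv_eq]
      exact (ActBC.bcCompIso_hom_naturality f pY hf (φ ≫ ψ)).symm
    rw [← Category.assoc, e1, e2, AlgGrp.Action.lift_restrict_act, Category.assoc e
      ((Over.pullback pX).map (φ ≫ ψ)), hnat]
    simp only [Category.assoc]
  · apply eq_pullPt f x y hfx u hu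
    · rw [Over.comp_left, Category.assoc, Category.assoc, ActBC.pullback_map_left_fst,
        reassoc_of% hgp]
      exact hh.2
    · rw [Category.assoc]
      refine Eq.trans (congrArg (pX₀ ≫ ·) ?_) hpX₀
      exact Over.w (g ≫ (Over.pullback f).map h)

end Groth.Agent.NoriLib
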