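/-
Stable closed subschemes of pseudo-torsors over reduced bases; morphisms from proper schemes to the
spectrum of their global functions have finite image.
-/
import Groth.Agent.GITLib.TorsorSch
import Mathlib.AlgebraicGeometry.Morphisms.SchemeTheoreticallyDominant
import Mathlib.AlgebraicGeometry.Morphisms.Proper

set_option autoImplicit false
set_option linter.style.haveILetI false

universe u

open CategoryTheory CategoryTheory.Limits MonoidalCategory CartesianMonoidalCategory MonObj AlgebraicGeometry

namespace Groth.Agent.NoriLib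

open Groth.Agent.GITLib

/-- A closed subscheme of a flat pseudo-torsor over a reduced base, stable and surjecting onto the
base, is everything. -/
theorem isIso_of_stable_surjective {S : Scheme.{u}} [AlgebraicGeometry.IsReduced S] {G T W : Over S}
    [GrpObj G] {a : AlgGrp.Action G T} (ha : NonAbH1.IsPseudoTorsorSch a) [Flat T.hom]
    [QuasiCompact T.hom] (j : W ⟶ T) [IsClosedImmersion j.left] [Surjective W.hom]
    (hst : ∀ {U : Over S} (g : U ⟶ G) (w : U ⟶ W), ∃ w' : U ⟶ W, w' ≫ j = lift g (w ≫ j) ≫ a.act) :
    IsIso j := by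
  haveI : QuasiCompact W.hom := by rw [← Over.w j]; infer_instance
  haveI : IsSchemeTheoreticallyDominant W.hom := .of_isDominant _
  haveI : IsSchemeTheoreticallyDominant (snd W T).left :=
    inferInstanceAs (IsSchemeTheoreticallyDominant (pullback.snd W.hom T.hom))
  obtain ⟨g, hg, -⟩ := existsUnique_diff ha (fst W T ≫ j) (snd W T)
  obtain ⟨w', hw'⟩ := hst g (fst W T)
  rw [hg] at hw'
  haveI : IsIso j.left := by
    rw [IsClosedImmersion.isIso_iff_ker_eq_bot, ← le_bot_iff, ← (snd W T).left.ker_eq_bot,
      ← hw', Over.comp_left]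
    exact Scheme.Hom.le_ker_comp _ _
  haveI : IsIso ((Over.forget S).map j) := ‹IsIso j.left›
  exact isIso_of_reflects_iso j (Over.forget S)

/-- A morphism to an affine scheme with integral map on global functions over a field has finite
image, hence open preimages. -/
theorem isOpen_preimage_of_noetherianSpace {k : Type u} [Field k] {W Z : Scheme.{u}}
    [TopologicalSpace.NoetherianSpace W] [IsAffine Z] (τ : W ⟶ Z) (s : Z ⟶ Spec (CommRingCat.of k))
    [IsIntegralHom s] (U : Set Z) : IsOpen (τ.base ⁻¹' U) := by
  let φ : CommRingCat.of k ⟶ Γ(Z, ⊤) := (Scheme.ΓSpecIso _).inv ≫ s.appTop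
  have hφ : φ.hom.IsIntegral := by
    have h1 : (s.app ⊤).hom.IsIntegral := Scheme.Hom.isIntegral_app s ⊤ (isAffineOpen_top _)
    exact RingHom.IsIntegral.trans _ _
      (RingHom.isIntegral_of_surjective _ (ConcreteCategory.bijective_of_isIso
        (Scheme.ΓSpecIso (CommRingCat.of k)).inv).2) h1
  have hcl : ∀ z : Z, IsClosed ({z} : Set Z) := by
    intro z
    have hz : IsClosed ({Z.isoSpec.hom.base z} : Set (Spec Γ(Z, ⊤))) := by
      refine (PrimeSpectrum.isClosed_singleton_iff_isMaximal _).mpr ?_
      letI := φ.hom.toAlgebra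
      haveI : Algebra.IsIntegral k Γ(Z, ⊤) := ⟨hφ⟩
      refine Ideal.isMaximal_of_isIntegral_of_isMaximal_comap (R := k) _ ?_
      exact ((IsSimpleOrder.eq_bot_or_eq_top
        ((Z.isoSpec.hom.base z).asIdeal.comap (algebraMap k Γ(Z, ⊤)))).resolve_right
        (Ideal.IsPrime.ne_top inferInstance)).symm ▸ (Ideal.bot_isMaximal : (⊥ : Ideal k).IsMaximal)
    have h2 := hz.preimage Z.isoSpec.hom.continuous
    rwa [show Z.isoSpec.hom.base ⁻¹' {Z.isoSpec.hom.base z} = {z} from
      Set.ext fun y => ⟨fun h => Z.isoSpec.hom.homeomorph.injective h,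
        fun h => congrArg _ h⟩] at h2
  have hspec : ∀ {x y : W}, x ⤳ y → τ.base x = τ.base y := fun {x y} h =>
    ((h.map τ.continuous).mem_closed (hcl _) rfl).symm
  have hfin : (Set.range τ.base).Finite := by
    refine Set.Finite.subset ((TopologicalSpace.NoetherianSpace.finite_irreducibleComponents
      (α := W)).biUnion (t := fun C => τ.base '' C) fun C hC => ?_) ?_
    · obtain ⟨η', hη'⟩ := QuasiSober.sober hC.1 (isClosed_of_mem_irreducibleComponents C hC)
      refine (Set.finite_singleton (τ.base η')).subset ?_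
      rintro _ ⟨x, hx, rfl⟩
      exact (hspec (hη'.specializes hx)).symm
    · rintro _ ⟨x, rfl⟩
      exact Set.mem_biUnion (irreducibleComponent_mem_irreducibleComponents x)
        ⟨x, mem_irreducibleComponent, rfl⟩
  have : τ.base ⁻¹' U = (τ.base ⁻¹' (Set.range τ.base \ U))ᶜ := by
    ext x; simp
  rw [this]
  haveI : T1Space Z := ⟨hcl⟩
  exact (hfin.sdiff.isClosed.preimage τ.continuous).isOpen_compl

end Groth.Agent.NoriLib
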